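import Groth.Agent.ASp.FiniteCoprod
import Mathlib.AlgebraicGeometry.Morphisms.Finite
import Mathlib.AlgebraicGeometry.PullbackCarrier
import Mathlib.FieldTheory.IsAlgClosed.AlgebraicClosure

/-!
# Groups acting transitively on geometric points
-/

set_option autoImplicit false
set_option backward.isDefEq.respectTransparency false

universe u

open CategoryTheory Limits AlgebraicGeometry

namespace Groth.Agent.GeomTrans

theorem isFinite_desc_id {G : Type u} [Finite G] (Y : Scheme.{u}) :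
    IsFinite (Limits.Sigma.desc fun _ : G => 𝟙 Y) := by
  obtain ⟨m, ⟨e⟩⟩ := Finite.exists_equiv_fin G
  let e' : ULift.{u} (Fin m) ≃ G := Equiv.ulift.trans e.symm
  haveI := Groth.Agent.ASp.isFinite_sigmaDesc (fun _ : ULift.{u} (Fin m) => Y) (fun _ => 𝟙 Y) fun _ => inferInstance
  let r : (∐ fun _ : G => Y) ≅ ∐ fun _ : ULift.{u} (Fin m) => Y := (Sigma.reindex e' fun _ : G => Y).symm
  have h : r.inv ≫ Limits.Sigma.desc (fun _ : G => 𝟙 Y) = Limits.Sigma.desc fun _ : ULift.{u} (Fin m) => 𝟙 Y :=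
    Sigma.hom_ext _ _ fun i => by
      refine Eq.trans (Eq.trans ((Category.assoc _ _ _).symm.trans (congrArg (· ≫ Limits.Sigma.desc fun _ : G => 𝟙 Y)
        (Sigma.ι_reindex_hom e' (fun _ : G => Y) i))) (Limits.Sigma.ι_desc (fun _ : G => 𝟙 Y) (e' i))) ?_
      exact (Limits.Sigma.ι_desc (fun _ : ULift.{u} (Fin m) => 𝟙 Y) i).symm
  rw [← MorphismProperty.cancel_left_of_respectsIso @IsFinite r.inv, h]
  infer_instance

/-- A geometric point at a point. -/
theorem exists_geomPt {X : Scheme.{u}} (x : X) : ∃ (Ω : Type u) (_ : Field Ω) (_ : IsAlgClosed Ω)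
    (τ : Spec (CommRingCat.of Ω) ⟶ X), ∀ p, τ p = x :=
  ⟨AlgebraicClosure (X.residueField x), inferInstance, inferInstance,
    Spec.map (CommRingCat.ofHom (algebraMap (X.residueField x) (AlgebraicClosure (X.residueField x)))) ≫
      X.fromSpecResidueField x, fun p => X.fromSpecResidueField_apply x _⟩

variable {X S : Scheme.{u}} (q : X ⟶ S) {G : Type u} [Group G] (ρ : G →* Aut X)
  (htrans : ∀ (Ω : Type u) [Field Ω] [IsAlgClosed Ω] (τ₁ τ₂ : Spec (CommRingCat.of Ω) ⟶ X),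
    τ₁ ≫ q = τ₂ ≫ q → ∃ g : G, τ₁ ≫ (ρ g).hom = τ₂)

include htrans in
theorem exists_smul_eq {x y : X} (h : q x = q y) : ∃ g : G, (ρ g).hom x = y := by
  obtain ⟨z, hz1, hz2⟩ := Scheme.Pullback.exists_preimage_pullback (f := q) (g := q) x y h
  obtain ⟨Ω, _, _, τ, hτ⟩ := exists_geomPt z
  obtain ⟨g, hg⟩ := htrans Ω (τ ≫ pullback.fst q q) (τ ≫ pullback.snd q q)
    (by rw [Category.assoc, Category.assoc, pullback.condition])
  refine ⟨g, ?_⟩
  have := congrArg (fun f : Spec (CommRingCat.of Ω) ⟶ X => f (IsLocalRing.closedPoint Ω)) hg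
  simp only [Scheme.Hom.comp_apply, hτ, hz1, hz2] at this
  exact this

include htrans in
theorem surjective_of_sigma {Y : Scheme.{u}} (r : Y ⟶ X) (υ : (∐ fun _ : G => Y) ⟶ pullback (r ≫ q) q)
    (hυ₁ : ∀ σ : G, Sigma.ι (fun _ : G => Y) σ ≫ υ ≫ pullback.fst (r ≫ q) q = 𝟙 Y)
    (hυ₂ : ∀ σ : G, Sigma.ι (fun _ : G => Y) σ ≫ υ ≫ pullback.snd (r ≫ q) q = r ≫ (ρ σ).hom) :
    Surjective υ := by
  refine ⟨fun z => ?_⟩
  obtain ⟨Ω, _, _, τ, hτ⟩ := exists_geomPt z
  obtain ⟨g, hg⟩ := htrans Ω ((τ ≫ pullback.fst (r ≫ q) q) ≫ r) (τ ≫ pullback.snd (r ≫ q) q)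
    (by simp [pullback.condition])
  have h : (τ ≫ pullback.fst (r ≫ q) q) ≫ Sigma.ι (fun _ : G => Y) g ≫ υ = τ := by
    refine pullback.hom_ext ?_ ?_
    · simp [hυ₁]
    · simp only [Category.assoc, hυ₂]
      simpa using hg
  have h2 := congrArg (fun f : Spec (CommRingCat.of Ω) ⟶ _ => f (IsLocalRing.closedPoint Ω)) h
  simp only [Scheme.Hom.comp_apply, hτ] at h2
  exact ⟨_, h2⟩

end Groth.Agent.GeomTrans
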